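import Groth.Agent.AlgEqPointLib.Graph
import Groth.Agent.SquareLib.LinkConn
import Groth.Agent.CurveAmpLib.Main
import Groth.Agent.AmpleThLib.Embed
import Groth.Agent.AmpleThLib.VeryAmple
import Groth.Agent.AmpleDevLib.Components
import Groth.Agent.ChowLib.Embed
import Groth.Agent.LichtLib.Conn
import Groth.Agent.HilbPolyLib.Snapper

/-!
# Rational points of connected projective varieties are algebraically equivalent
-/

set_option autoImplicit false
set_option maxHeartbeats 1000000
set_option linter.style.haveILetI false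
set_option backward.isDefEq.respectTransparency false

universe u

open AlgebraicGeometry CategoryTheory CategoryTheory.Limits IsLocalRing TopologicalSpace

namespace AlgEqPointLib

variable {k : Type u} [Field k]

/-- An ample module gives a projective embedding. -/
theorem isProjectiveOver_of_ample {X : Over (Spec (CommRingCat.of k))} [IsProper X.hom] {L : X.left.Modules}
    (hA : CohB1.IsAmple L) : Neron.IsProjectiveOver k X := by
  haveI : IsLocallyNoetherian X.left := LocallyOfFiniteType.isLocallyNoetherian X.hom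
  haveI : CompactSpace X.left := QuasiCompact.compactSpace_of_compactSpace X.hom
  haveI : IsNoetherian X.left := ⟨⟩
  have hL : PicF.IsInvertible L := hA.1
  obtain ⟨n₀, hd⟩ := AmpleThLib.exists_data X.hom hL hA
  obtain ⟨m, w, K, hcov, haff, hsur⟩ := hd n₀ le_rfl
  obtain ⟨m', j, hj, hjh, -⟩ := AmpleThLib.exists_immersion X.hom (AmpleThLib.tensorPow_isInvertible hL n₀) w K hcov
    haff hsur
  haveI := hj
  haveI : IsProper (CohB1.ProjSpaceOver.toBase m' (Spec (CommRingCat.of k))) := ChowLib.isProper_toBase m' _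
  haveI : IsProper j := by
    haveI : IsProper (j ≫ CohB1.ProjSpaceOver.toBase m' (Spec (CommRingCat.of k))) := hjh.symm ▸ ‹IsProper X.hom›
    exact IsProper.of_comp j (CohB1.ProjSpaceOver.toBase m' _)
  exact ⟨m', j, IsClosedImmersion.of_isPreimmersion j j.isClosedMap.isClosed_range, hjh⟩

variable {X : Scheme.{u}} (p : X ⟶ Spec (CommRingCat.of k)) [DecidableEq X]

/-- Two points are related when their difference is algebraically trivial. -/
def PtRel (x y : X) : Prop :=
  (Function.locallyFinsuppWithin.single x (1 : ℤ) - Function.locallyFinsuppWithin.single y (1 : ℤ) : AlgebraicCycle X ℤ) ∈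
    AlgEqCyc.algTriv p

theorem PtRel.refl (x : X) : PtRel p x x := by
  unfold PtRel
  rw [sub_self]
  exact zero_mem _

variable {p} in
theorem PtRel.symm {x y : X} (h : PtRel p x y) : PtRel p y x := by
  unfold PtRel at h ⊢
  rw [← neg_sub]
  exact neg_mem h

variable {p} in
theorem PtRel.trans {x y z : X} (h : PtRel p x y) (h' : PtRel p y z) : PtRel p x z := by
  unfold PtRel at h h' ⊢
  have := add_mem h h'
  rwa [sub_add_sub_cancel] at this

theorem ptRel_of_curve {C : Scheme.{u}} {q : C ⟶ Spec (CommRingCat.of k)} (h : C ⟶ X) (hh : h ≫ p = q)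
    [IsClosedImmersion (graph h hh)] (hs : Smooth q) (hp : Neron.IsProjectiveOver k (Over.mk q)) (hi : IsIntegral C)
    (hd : topologicalKrullDim ↥C = 1)
    (t₁ t₂ : Spec (CommRingCat.of k) ⟶ C) (h₁ : t₁ ≫ q = 𝟙 _) (h₂ : t₂ ≫ q = 𝟙 _) :
    PtRel p (h (t₁ (closedPoint k))) (h (t₂ (closedPoint k))) :=
  AddSubgroup.subset_closure (isElemAlgTriv_of_map h hh hs hp hi hd t₁ t₂ h₁ h₂)

/-- Chains in a connected finite union of closed sets. -/
theorem chain {ι : Type*} [Finite ι] (T : ι → Set X) (hcl : ∀ i, IsClosed (T i))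
    (hconn : _root_.IsConnected (⋃ i, T i)) (P : X → Prop)
    (hmeet : ∀ i j, (T i ∩ T j).Nonempty → ∃ z ∈ T i ∩ T j, P z)
    (hlink : ∀ i, ∀ x ∈ T i, ∀ y ∈ T i, P x → P y → PtRel p x y)
    {x y : X} (hx : x ∈ ⋃ i, T i) (hy : y ∈ ⋃ i, T i) (hPx : P x) (hPy : P y) : PtRel p x y := by
  obtain ⟨a, ha⟩ := Set.mem_iUnion.1 hx
  let G : Set ι := {i | ∃ z ∈ T i, P z ∧ PtRel p x z}
  have hA : IsClosed (⋃ i ∈ G, T i) := (Set.toFinite G).isClosed_biUnion fun i _ => hcl i
  have hB : IsClosed (⋃ i ∈ Gᶜ, T i) := (Set.toFinite Gᶜ).isClosed_biUnion fun i _ => hcl i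
  by_cases hb : ∃ b ∈ G, y ∈ T b
  · obtain ⟨b, ⟨z, hz, hPz, hxz⟩, hyb⟩ := hb
    exact hxz.trans (hlink b z hz y hyb hPz hPy)
  · push Not at hb
    obtain ⟨b, hyb⟩ := Set.mem_iUnion.1 hy
    have hcov : (⋃ i, T i) ⊆ (⋃ i ∈ G, T i) ∪ ⋃ i ∈ Gᶜ, T i := fun z hz => by
      obtain ⟨i, hi⟩ := Set.mem_iUnion.1 hz
      by_cases h : i ∈ G
      · exact Or.inl (Set.mem_biUnion h hi)
      · exact Or.inr (Set.mem_biUnion h hi)
    obtain ⟨w, -, hwA, hwB⟩ := (isPreconnected_closed_iff.1 hconn.2) _ _ hA hB hcov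
      ⟨x, hx, Set.mem_biUnion (show a ∈ G from ⟨x, ha, hPx, PtRel.refl p x⟩) ha⟩
      ⟨y, hy, Set.mem_biUnion (show b ∈ Gᶜ from fun h => hb b h hyb) hyb⟩
    obtain ⟨i, ⟨z, hz, hPz, hxz⟩, hwi⟩ := Set.mem_iUnion₂.1 hwA
    obtain ⟨j, hj, hwj⟩ := Set.mem_iUnion₂.1 hwB
    obtain ⟨v, ⟨hvi, hvj⟩, hPv⟩ := hmeet i j ⟨w, hwi, hwj⟩
    exact absurd ⟨v, hvj, hPv, hxz.trans (hlink i z hz v hvi hPz hPv)⟩ hj

variable [IsAlgClosed k] [IsProper p]

/-- The closed points of an irreducible closed subset are related. -/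
theorem ptRel_irreducible : ∀ (n : ℕ) (Z : Set X), IsIrreducible Z → IsClosed Z →
    topologicalKrullDim ↥Z ≤ ((n : ℕ) : WithBot ℕ∞) → ∀ x ∈ Z, ∀ y ∈ Z, IsClosed ({x} : Set X) → IsClosed ({y} : Set X) →
      PtRel p x y := by
  intro n
  induction n with
  | zero =>
    intro Z hZ hZc hd x hx y hy hxc hyc
    haveI : IsLocallyNoetherian X := LocallyOfFiniteType.isLocallyNoetherian p
    haveI : CompactSpace X := QuasiCompact.compactSpace_of_compactSpace p
    haveI : IsNoetherian X := ⟨⟩
    obtain ⟨hfin, hcl⟩ := CurvLib.finite_isClosed_of_dim_le_zero hZc hd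
    obtain ⟨c, hc⟩ := QuasiSober.sober hZ hZc
    have hcZ : Z = {c} := by rw [← hc.def]; exact (hcl c hc.mem).closure_eq
    rw [hcZ] at hx hy
    obtain rfl : x = c := hx
    obtain rfl : y = x := hy
    exact PtRel.refl p y
  | succ n ih =>
    intro Z hZ hZc hd x hx y hy hxc hyc
    by_cases hxy : x = y
    · exact hxy ▸ PtRel.refl p x
    haveI : IsLocallyNoetherian X := LocallyOfFiniteType.isLocallyNoetherian p
    haveI : CompactSpace X := QuasiCompact.compactSpace_of_compactSpace p
    haveI : IsNoetherian X := ⟨⟩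
    haveI : JacobsonSpace X := LocallyOfFiniteType.jacobsonSpace p
    obtain ⟨Y, i, hi, hY, hrange⟩ := SquareLib.exists_integral_sub hZ hZc
    haveI := hi; haveI := hY
    have hhomeo : topologicalKrullDim Y = topologicalKrullDim Z :=
      ((i.isEmbedding.toHomeomorph.trans (Homeomorph.setCongr hrange)).isHomeomorph).topologicalKrullDim_eq
    haveI : IsProper (i ≫ p) := inferInstance
    haveI : IsLocallyNoetherian Y := LocallyOfFiniteType.isLocallyNoetherian (i ≫ p)
    haveI : CompactSpace Y := QuasiCompact.compactSpace_of_compactSpace (i ≫ p)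
    haveI : IsNoetherian Y := ⟨⟩
    haveI : JacobsonSpace Y := LocallyOfFiniteType.jacobsonSpace (i ≫ p)
    rw [← hrange] at hx hy
    obtain ⟨a, rfl⟩ := hx
    obtain ⟨b, rfl⟩ := hy
    have hac : IsClosed ({a} : Set Y) := by
      rw [show ({a} : Set Y) = i ⁻¹' {i a} from Set.ext fun z =>
        ⟨fun h => congrArg _ h, fun h => i.isEmbedding.injective h⟩]
      exact hxc.preimage i.continuous
    have hbc : IsClosed ({b} : Set Y) := by
      rw [show ({b} : Set Y) = i ⁻¹' {i b} from Set.ext fun z =>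
        ⟨fun h => congrArg _ h, fun h => i.isEmbedding.injective h⟩]
      exact hyc.preimage i.continuous
    by_cases h2 : (2 : WithBot ℕ∞) ≤ topologicalKrullDim Y
    · have hηa : genericPoint Y ∉ ({a, b} : Set Y) := by
        rintro (h | h)
        · have h3 : (Set.univ : Set Y) = {a} := by rw [← (genericPoint_spec Y).def, h, hac.closure_eq]
          exact hxy (congrArg i ((h3.le (Set.mem_univ b)).symm : a = b))
        · have h3 : (Set.univ : Set Y) = {b} := by rw [← (genericPoint_spec Y).def, h, hbc.closure_eq]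
          exact hxy (congrArg i (h3.le (Set.mem_univ a) : a = b))
      obtain ⟨V, hV, hηV, hVle⟩ := exists_isAffineOpen_mem_and_subset
        (U := (⟨({a, b} : Set Y)ᶜ, (hac.union hbc).isOpen_compl⟩ : Y.Opens)) (x := genericPoint Y) hηa
      have hconn : _root_.IsConnected ((V : Set Y)ᶜ) := LichtLib.isConnected_compl' (i ≫ p) h2 V hV
      obtain ⟨S, hSfin, hScl, hSirr, hS⟩ := NoetherianSpace.exists_finite_set_isClosed_irreducible
        (V.2.isClosed_compl)
      haveI : Finite S := hSfin
      refine chain p (fun t : S => i '' t.1) (fun t => i.isClosedEmbedding.isClosedMap _ (hScl _ t.2)) ?_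
        (fun z => IsClosed ({z} : Set X)) (fun t t' h => ?_) (fun t u hu v hv huc hvc => ?_) ?_ ?_ hxc hyc
      · rw [show (⋃ t : S, i '' t.1) = i '' (V : Set Y)ᶜ by
          rw [← Set.image_iUnion, ← Set.sUnion_eq_iUnion]; exact congrArg _ hS.symm]
        exact hconn.image _ i.continuous.continuousOn
      · exact nonempty_inter_closedPoints h
          (((i.isClosedEmbedding.isClosedMap _ (hScl _ t.2)).inter (i.isClosedEmbedding.isClosedMap _ (hScl _ t'.2))).isLocallyClosed)
      · refine ih (i '' t.1) ((hSirr _ t.2).image _ i.continuous.continuousOn)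
          (i.isClosedEmbedding.isClosedMap _ (hScl _ t.2)) ?_ u hu v hv huc hvc
        have hlt : topologicalKrullDim t.1 < ((n + 1 : ℕ) : WithBot ℕ∞) := by
          refine HilbPolyLib.dim_lt_of_notMem (η := genericPoint Y) (Y := Set.univ) (hScl _ t.2)
            (fun z _ => by rw [(genericPoint_spec Y).def]; trivial)
            (fun h => (hS.ge (Set.mem_sUnion_of_mem h t.2)) hηV) (Set.subset_univ _) ?_
          rw [(Homeomorph.Set.univ Y).isHomeomorph.topologicalKrullDim_eq, hhomeo]
          exact lt_of_le_of_lt hd (by exact_mod_cast Nat.lt_succ_self (n + 1))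
        rw [← ((i.isEmbedding.homeomorphImage t.1).isHomeomorph).topologicalKrullDim_eq]
        exact ENat.WithBot.lt_add_one_iff.mp (by exact_mod_cast hlt)
      · have : a ∈ ⋃₀ S := hS ▸ (fun h => hVle h (Or.inl rfl))
        obtain ⟨t, ht, hat⟩ := this
        exact Set.mem_iUnion.2 ⟨⟨t, ht⟩, Set.mem_image_of_mem i hat⟩
      · have : b ∈ ⋃₀ S := hS ▸ (fun h => hVle h (Or.inr rfl))
        obtain ⟨t, ht, hbt⟩ := this
        exact Set.mem_iUnion.2 ⟨⟨t, ht⟩, Set.mem_image_of_mem i hbt⟩
    · have hle : topologicalKrullDim Y ≤ 1 := ENat.WithBot.lt_add_one_iff.mp (by exact_mod_cast not_le.1 h2)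
      obtain ⟨C, ν, hC, hsurj, hfin⟩ := SquareLib.exists_smooth_normalization (i ≫ p) hle
      haveI := hfin
      haveI := hsurj
      obtain ⟨hCs, hCsep, hCqc, hCint, hCd⟩ := hC
      have hw : ν.left ≫ i ≫ p = C.hom := Over.w ν
      haveI : IsProper C.hom := by rw [← hw]; infer_instance
      haveI : IsIntegral C.left := GeometricallyIntegral.isIntegral_of_subsingleton C.hom
      haveI : IsLocallyNoetherian C.left := LocallyOfFiniteType.isLocallyNoetherian C.hom
      haveI : CompactSpace C.left := QuasiCompact.compactSpace_of_compactSpace C.hom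
      haveI : IsNoetherian C.left := ⟨⟩
      haveI : C.left.IsSeparated := ⟨by
        rw [← terminal.comp_from C.hom]
        infer_instance⟩
      haveI : JacobsonSpace C.left := LocallyOfFiniteType.jacobsonSpace C.hom
      obtain ⟨L, hL⟩ := CurveAmpLib.exists_ample hCd
      have hCp : Neron.IsProjectiveOver k (Over.mk C.hom) := isProjectiveOver_of_ample (X := C) hL
      have hlift : ∀ z : Y, IsClosed ({z} : Set Y) → ∃ t : Spec (CommRingCat.of k) ⟶ C.left,
          t ≫ C.hom = 𝟙 _ ∧ ν.left (t (closedPoint k)) = z := by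
        intro z hz
        obtain ⟨c₀, hc₀⟩ := ν.left.surjective z
        obtain ⟨c, hc, hcc⟩ := nonempty_inter_closedPoints (Z := ν.left ⁻¹' {z}) ⟨c₀, hc₀⟩
          (hz.preimage ν.left.continuous).isLocallyClosed
        exact ⟨pointOfClosedPoint C.hom c hcc, pointOfClosedPoint_comp _ _ _,
          (congrArg (fun w => ν.left w) (pointOfClosedPoint_apply _ _ _ _)).trans hc⟩
      obtain ⟨t₁, ht₁, hta⟩ := hlift a hac
      obtain ⟨t₂, ht₂, htb⟩ := hlift b hbc
      have hdim1 : topologicalKrullDim ↥C.left = 1 := by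
        refine le_antisymm hCd ?_
        by_contra hlt
        have h0 : topologicalKrullDim ↥C.left ≤ 0 := ENat.WithBot.lt_add_one_iff.mp (by simpa using not_le.1 hlt)
        have h0' : topologicalKrullDim (Set.univ : Set C.left) ≤ 0 := by
          rw [(Homeomorph.Set.univ C.left).isHomeomorph.topologicalKrullDim_eq]; exact h0
        obtain ⟨-, hcl⟩ := CurvLib.finite_isClosed_of_dim_le_zero isClosed_univ h0'
        have huniv : (Set.univ : Set C.left) = {genericPoint C.left} :=
          ((genericPoint_spec C.left).def.symm.trans (hcl _ trivial).closure_eq)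
        refine hxy (congrArg i ?_)
        rw [← hta, ← htb]
        exact congrArg (fun w => ν.left w) ((huniv.le (Set.mem_univ _)).trans (huniv.le (Set.mem_univ _)).symm)
      haveI : IsClosedImmersion (graph (p := p) (q := C.hom) (ν.left ≫ i) ((Category.assoc _ _ _).trans hw)) :=
        isClosedImmersion_graph _ _
      have key := ptRel_of_curve p (q := C.hom) (ν.left ≫ i) ((Category.assoc _ _ _).trans hw) hCs hCp inferInstance hdim1 t₁ t₂ ht₁ ht₂
      rw [Scheme.Hom.comp_apply, Scheme.Hom.comp_apply, hta, htb] at key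
      exact key

end AlgEqPointLib
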