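import Mathlib
import Groth.Prelude.Def_AlgEqCyc
import Groth.Agent.CycDivLib.Ord

/-!
# Graphs of curves as algebraically trivial families of points
-/

set_option autoImplicit false
set_option maxHeartbeats 1000000
set_option linter.style.haveILetI false
set_option backward.isDefEq.respectTransparency false

universe u

open AlgebraicGeometry CategoryTheory CategoryTheory.Limits IsLocalRing

namespace AlgEqPointLib

variable {k : Type u} [Field k] {X C : Scheme.{u}} {p : X ⟶ Spec (CommRingCat.of k)} {q : C ⟶ Spec (CommRingCat.of k)}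

/-- The graph of a morphism over the base. -/
noncomputable def graph (h : C ⟶ X) (hh : h ≫ p = q) : C ⟶ pullback p q :=
  pullback.lift h (𝟙 C) (by rw [hh, Category.id_comp])

@[reassoc]
theorem graph_snd (h : C ⟶ X) (hh : h ≫ p = q) : graph h hh ≫ pullback.snd p q = 𝟙 C := pullback.lift_snd _ _ _

@[reassoc]
theorem graph_fst (h : C ⟶ X) (hh : h ≫ p = q) : graph h hh ≫ pullback.fst p q = h := pullback.lift_fst _ _ _

theorem isClosedImmersion_graph [IsSeparated p] (h : C ⟶ X) (hh : h ≫ p = q) : IsClosedImmersion (graph h hh) := by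
  haveI : IsClosedImmersion (graph h hh ≫ pullback.snd p q) := by rw [graph_snd]; infer_instance
  exact IsClosedImmersion.of_comp (graph h hh) (pullback.snd p q)

theorem isClosedImmersion_graph' [IsSeparated q] (h : C ⟶ X) [IsClosedImmersion h] (hh : h ≫ p = q) :
    IsClosedImmersion (graph h hh) := by
  have e : graph h hh = pullback.diagonal q ≫ pullback.map q q p q h (𝟙 C) (𝟙 _) (by simp [hh]) (by simp) := by
    apply pullback.hom_ext <;> simp [graph]
  rw [e]
  haveI : IsClosedImmersion (pullback.map q q p q h (𝟙 C) (𝟙 _) (by simp [hh]) (by simp)) :=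
    MorphismProperty.pullback_map (P := @IsClosedImmersion.{u}) ‹_› inferInstance hh.symm (Category.id_comp q).symm
  infer_instance

section Mult

variable {P : Scheme.{u}}

/-- A section meets each fibre with multiplicity one. -/
theorem fibreMult_section [IsIntegral C] (g : P ⟶ C) (γ : C ⟶ P) [IsClosedImmersion γ] (hγ : γ ≫ g = 𝟙 C) (c : C)
    (h : γ (genericPoint C) ⤳ γ c) : AlgEqCyc.fibreMult g (γ c) (γ (genericPoint C)) h = 1 := by
  unfold AlgEqCyc.fibreMult
  let R := P.presheaf.stalk (γ c)
  let L := Cyc.LocQuot (γ c) (γ (genericPoint C)) h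
  let φ : C.presheaf.stalk (g (γ c)) →+* L :=
    (Ideal.Quotient.mk (RingHom.ker (Cyc.specMap (γ c) (γ (genericPoint C)) h))).comp (g.stalkMap (γ c)).hom
  let J : Ideal L := (maximalIdeal (C.presheaf.stalk (g (γ c)))).map φ
  haveI : IsLocalRing L := IsLocalRing.of_surjective' _ Ideal.Quotient.mk_surjective
  haveI : IsLocalHom (Ideal.Quotient.mk (RingHom.ker (Cyc.specMap (γ c) (γ (genericPoint C)) h))) :=
    IsLocalHom.of_surjective _ Ideal.Quotient.mk_surjective
  haveI : IsLocalHom φ := RingHom.isLocalHom_comp _ _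
  have hJ : J ≠ ⊤ := fun hJ => by
    have := ((IsLocalRing.local_hom_TFAE φ).out 0 2 :).1 inferInstance
    exact (maximalIdeal.isMaximal _).ne_top (top_le_iff.1 (hJ.ge.trans this))
  let T : R →ₗ[R] L ⧸ J := Algebra.linearMap R (L ⧸ J)
  have hT : Function.Surjective T := fun m => by
    obtain ⟨x, rfl⟩ := Ideal.Quotient.mk_surjective m
    obtain ⟨r, rfl⟩ := Ideal.Quotient.mk_surjective x
    exact ⟨r, rfl⟩
  let ψ : C.presheaf.stalk (g (γ c)) ⟶ C.presheaf.stalk c := g.stalkMap (γ c) ≫ γ.stalkMap c
  have hψ : IsIso ψ := by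
    have h1 := Scheme.Hom.stalkMap_comp γ g c
    have : IsIso ((γ ≫ g).stalkMap c) := by
      have key : ∀ {f : C ⟶ C}, f = 𝟙 C → IsIso (f.stalkMap c) := fun e => by subst e; infer_instance
      exact key hγ
    rwa [h1] at this
  have hzero : ∀ r : R, (γ.stalkMap c).hom r = 0 → Cyc.specMap (γ c) (γ (genericPoint C)) h r = 0 := by
    intro r hr
    apply (γ.residueFieldMap (genericPoint C)).hom.injective
    rw [map_zero]
    show (γ.residueFieldMap (genericPoint C)) ((P.residue (γ (genericPoint C))) (P.presheaf.stalkSpecializes h r)) = 0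
    have e1 := ConcreteCategory.congr_hom (Scheme.residue_residueFieldMap γ (genericPoint C)) (P.presheaf.stalkSpecializes h r)
    refine e1.trans ?_
    have e2 := ConcreteCategory.congr_hom (γ.stalkSpecializes_stalkMap (genericPoint C) c ((genericPoint_spec C).specializes trivial)) r
    show C.residue (genericPoint C) (γ.stalkMap (genericPoint C) (P.presheaf.stalkSpecializes h r)) = 0
    refine (congrArg (C.residue (genericPoint C)) e2).trans ?_
    show C.residue (genericPoint C) (C.presheaf.stalkSpecializes _ ((γ.stalkMap c).hom r)) = 0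
    rw [hr, map_zero, map_zero]
  have hker : LinearMap.ker T = maximalIdeal R := by
    refine le_antisymm (IsLocalRing.le_maximalIdeal ?_) fun r hr => ?_
    · intro e
      have h1 : (1 : R) ∈ LinearMap.ker T := e ▸ trivial
      have : (1 : L ⧸ J) = 0 := (map_one (algebraMap R (L ⧸ J))).symm.trans h1
      exact hJ ((Ideal.eq_top_iff_one J).2 (Ideal.Quotient.eq_zero_iff_mem.1 this))
    · let a := (inv ψ).hom ((γ.stalkMap c).hom r)
      have ha : a ∈ maximalIdeal (C.presheaf.stalk (g (γ c))) := by
        intro hu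
        refine hr ?_
        have h2 : IsUnit ((γ.stalkMap c).hom r) := by
          have h3 : IsUnit (ψ.hom a) := hu.map ψ.hom
          have h4 : ψ.hom a = (γ.stalkMap c).hom r := by
            show (inv ψ ≫ ψ).hom _ = _
            rw [IsIso.inv_hom_id]; rfl
          rwa [h4] at h3
        exact isUnit_of_map_unit (γ.stalkMap c).hom r h2
      have h5 : (γ.stalkMap c).hom (r - (g.stalkMap (γ c)).hom a) = 0 := by
        rw [map_sub, sub_eq_zero]
        show _ = (inv ψ ≫ ψ).hom _
        rw [IsIso.inv_hom_id]; rfl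
      show Ideal.Quotient.mk J (Ideal.Quotient.mk _ r) = 0
      have h6 : Ideal.Quotient.mk (RingHom.ker (Cyc.specMap (γ c) (γ (genericPoint C)) h)) r = φ a :=
        Ideal.Quotient.eq.2 (hzero _ h5)
      rw [h6]
      exact Ideal.Quotient.eq_zero_iff_mem.2 (Ideal.mem_map_of_mem φ ha)
  have hlen : Module.length R (L ⧸ J) = 1 := by
    rw [← (T.quotKerEquivOfSurjective hT).length_eq, hker, Module.length_eq_one_iff, isSimpleModule_iff_isCoatom]
    exact Ideal.isMaximal_def.1 (maximalIdeal.isMaximal R)
  exact congrArg ENat.toNat hlen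

end Mult

theorem slice_fst (t : Spec (CommRingCat.of k) ⟶ C) (ht : t ≫ q = 𝟙 _) (x : X) :
    pullback.fst p q (AlgEqCyc.slice p q t ht x) = x := by
  show (AlgEqCyc.slice p q t ht ≫ pullback.fst p q) x = x
  rw [AlgEqCyc.slice, pullback.lift_fst]
  rfl

theorem slice_snd (t : Spec (CommRingCat.of k) ⟶ C) (ht : t ≫ q = 𝟙 _) (x : X) :
    pullback.snd p q (AlgEqCyc.slice p q t ht x) = t (closedPoint k) := by
  show (AlgEqCyc.slice p q t ht ≫ pullback.snd p q) x = _
  rw [AlgEqCyc.slice, pullback.lift_snd]
  exact congrArg (fun a => t a) (Subsingleton.elim (α := PrimeSpectrum k) (p x) (closedPoint k))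

theorem slice_point (h : C ⟶ X) (hh : h ≫ p = q) (t : Spec (CommRingCat.of k) ⟶ C) (ht : t ≫ q = 𝟙 _) :
    AlgEqCyc.slice p q t ht (h (t (closedPoint k))) = graph h hh (t (closedPoint k)) := by
  show ((t ≫ h) ≫ AlgEqCyc.slice p q t ht) (closedPoint k) = (t ≫ graph h hh) (closedPoint k)
  have e : (t ≫ h) ≫ AlgEqCyc.slice p q t ht = t ≫ graph h hh := by
    apply pullback.hom_ext
    · simp [AlgEqCyc.slice, graph]
    · simp [AlgEqCyc.slice, graph, reassoc_of% hh, reassoc_of% ht]
  rw [e]

open scoped Classical in
/-- The fibre of the graph over a point is the image of the point. -/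
theorem fibreFun_graph [IsIntegral C] (h : C ⟶ X) (hh : h ≫ p = q) [IsClosedImmersion (graph h hh)]
    (t : Spec (CommRingCat.of k) ⟶ C) (ht : t ≫ q = 𝟙 _) (x : X) :
    AlgEqCyc.fibreFun p q (Function.locallyFinsuppWithin.single (graph h hh (genericPoint C)) 1) t ht x =
      if x = h (t (closedPoint k)) then 1 else 0 := by
  let γ := graph h hh
  unfold AlgEqCyc.fibreFun
  have hW : ∀ w, (Function.locallyFinsuppWithin.single (γ (genericPoint C)) (1 : ℤ) : AlgebraicCycle (pullback p q) ℤ) w ≠ 0 →
      w = γ (genericPoint C) := fun w hw => by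
    by_contra hne
    exact hw (by rw [Function.locallyFinsuppWithin.single_apply, if_neg hne])
  have hone : (Function.locallyFinsuppWithin.single (γ (genericPoint C)) (1 : ℤ) : AlgebraicCycle (pullback p q) ℤ)
      (γ (genericPoint C)) = 1 := by rw [Function.locallyFinsuppWithin.single_apply, if_pos rfl]
  split_ifs with hx
  · subst hx
    have hsl := slice_point h hh t ht
    have hsp : γ (genericPoint C) ⤳ γ (t (closedPoint k)) := ((genericPoint_spec C).specializes trivial).map γ.continuous
    rw [finsum_eq_single _ (⟨γ (genericPoint C), by rw [hone]; exact one_ne_zero, hsl ▸ hsp⟩ :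
      {w : ↥(pullback p q) // _ ∧ w ⤳ AlgEqCyc.slice p q t ht (h (t (closedPoint k)))})]
    · show (Function.locallyFinsuppWithin.single (γ (genericPoint C)) (1 : ℤ) : AlgebraicCycle (pullback p q) ℤ)
        (γ (genericPoint C)) * _ = 1
      refine (congrArg (· * _) hone).trans ((one_mul _).trans ?_)
      have key : ∀ v (hv : v = γ (t (closedPoint k))) (hs : γ (genericPoint C) ⤳ v),
          (AlgEqCyc.fibreMult (pullback.snd p q) v (γ (genericPoint C)) hs : ℤ) = 1 := by
        intro v hv hs
        subst hv
        rw [fibreMult_section (pullback.snd p q) γ (graph_snd h hh)]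
        rfl
      exact key _ hsl _
    · intro w hw
      exact absurd (Subtype.ext (hW w.1 w.2.1)) hw
  · refine finsum_eq_zero_of_forall_eq_zero fun w => ?_
    exfalso
    apply hx
    have hw := w.2.2
    rw [hW w.1 w.2.1] at hw
    obtain ⟨c, hc⟩ : AlgEqCyc.slice p q t ht x ∈ Set.range γ :=
      hw.mem_closed γ.isClosedEmbedding.isClosed_range ⟨_, rfl⟩
    have h1 : c = t (closedPoint k) := by
      have := congrArg (fun a => pullback.snd p q a) hc
      rw [slice_snd] at this
      refine Eq.trans ?_ this
      show c = (γ ≫ pullback.snd p q) c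
      rw [graph_snd]; rfl
    have h2 : h c = x := by
      have := congrArg (fun a => pullback.fst p q a) hc
      rw [slice_fst] at this
      refine Eq.trans ?_ this
      show h c = (γ ≫ pullback.fst p q) c
      rw [graph_fst]
    rw [← h2, h1]

/-- Two points of the image of a curve differ by an elementary algebraically trivial cycle. -/
theorem isElemAlgTriv_of_map [DecidableEq X] (h : C ⟶ X) (hh : h ≫ p = q) [IsClosedImmersion (graph h hh)] (hs : Smooth q)
    (hp : Neron.IsProjectiveOver k (Over.mk q)) (hi : IsIntegral C) (hd : topologicalKrullDim ↥C = 1)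
    (t₁ t₂ : Spec (CommRingCat.of k) ⟶ C) (h₁ : t₁ ≫ q = 𝟙 _) (h₂ : t₂ ≫ q = 𝟙 _) :
    AlgEqCyc.IsElemAlgTriv p
      (Function.locallyFinsuppWithin.single (h (t₁ (closedPoint k))) (1 : ℤ) -
        Function.locallyFinsuppWithin.single (h (t₂ (closedPoint k))) (1 : ℤ)) := by
  classical
  refine ⟨C, q, hs, hp, hi, hd, Function.locallyFinsuppWithin.single (graph h hh (genericPoint C)) 1, fun w hw => ?_,
    t₁, t₂, h₁, h₂, fun x => ?_⟩
  · have hwe : w = graph h hh (genericPoint C) := by
      by_contra hne
      exact hw (by rw [Function.locallyFinsuppWithin.single_apply, if_neg hne])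
    subst hwe
    have e : pullback.snd p q (graph h hh (genericPoint C)) = genericPoint C := by
      show (graph h hh ≫ pullback.snd p q) (genericPoint C) = _
      rw [graph_snd]; rfl
    rw [e]
    exact genericPoint_spec C
  · rw [fibreFun_graph, fibreFun_graph, Function.locallyFinsuppWithin.coe_sub, Pi.sub_apply,
      Function.locallyFinsuppWithin.single_apply, Function.locallyFinsuppWithin.single_apply]
    split_ifs <;> rfl

end AlgEqPointLib
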