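import Groth.Agent.AlgEqPointLib.Connect
import Groth.Agent.CycPBLib.Degree

/-!
# Zero-cycles of degree zero and chains of curves
-/

set_option autoImplicit false
set_option maxHeartbeats 1000000
set_option linter.style.haveILetI false
set_option backward.isDefEq.respectTransparency false

universe u

open AlgebraicGeometry CategoryTheory CategoryTheory.Limits IsLocalRing TopologicalSpace

namespace AlgEqPointLib

variable {k : Type u} [Field k]

/-- A rational point lying on a closed subscheme comes from it. -/
theorem exists_lift_point {X C : Scheme.{u}} (ι : C ⟶ X) [IsClosedImmersion ι] (R : Spec (CommRingCat.of k) ⟶ X)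
    (hR : R (closedPoint k) ∈ Set.range ι) : ∃ t : Spec (CommRingCat.of k) ⟶ C, t ≫ ι = R := by
  haveI : Surjective (pullback.snd ι R) := ⟨fun a => by
    obtain ⟨c, hc⟩ := hR
    rw [show a = closedPoint k from Subsingleton.elim (α := PrimeSpectrum k) a _]
    obtain ⟨z, -, hz⟩ := Scheme.Pullback.exists_preimage_pullback (f := ι) (g := R) c (closedPoint k) hc
    exact ⟨z, hz⟩⟩
  haveI : IsClosedImmersion (pullback.snd ι R) := MorphismProperty.pullback_snd ι R inferInstance
  haveI : IsIso (pullback.snd ι R) := isIso_of_isClosedImmersion_of_surjective _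
  exact ⟨inv (pullback.snd ι R) ≫ pullback.fst ι R, by rw [Category.assoc, pullback.condition, IsIso.inv_hom_id_assoc]⟩

theorem isAlgClosed_residueField [IsAlgClosed k] (a : Spec (CommRingCat.of k)) :
    IsAlgClosed ((Spec (CommRingCat.of k)).residueField a) := by
  haveI : a.asIdeal.IsMaximal := Ideal.IsMaximal.mk ⟨a.isPrime.ne_top, fun J hJ => by
    rcases Ideal.eq_bot_or_top J with h | h
    · exact absurd hJ (h ▸ not_lt_bot)
    · exact h⟩
  haveI : IsAlgClosed a.asIdeal.ResidueField :=
    IsAlgClosed.of_ringEquiv k _ (RingEquiv.ofBijective (algebraMap k a.asIdeal.ResidueField)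
      ⟨(algebraMap k a.asIdeal.ResidueField).injective, Ideal.algebraMap_residueField_surjective _⟩)
  exact IsAlgClosed.of_ringEquiv a.asIdeal.ResidueField _
    (Scheme.Spec.residueFieldIso (CommRingCat.of k) a).symm.commRingCatIsoToRingEquiv

variable [IsAlgClosed k] {X : Scheme.{u}} (p : X ⟶ Spec (CommRingCat.of k))

/-- A point of weight zero is closed and has residue degree one. -/
theorem closed_of_delta_zero [LocallyOfFiniteType p] {δ : X → ℤ} (hδ : Cyc.DeltaCompat p δ (fun _ => 0)) {x : X}
    (hx : δ x = 0) : IsClosed ({x} : Set X) ∧ p.residueDegree x = 1 := by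
  obtain ⟨n, hn, hn'⟩ := hδ x
  obtain rfl : n = 0 := by simp only [hx, zero_add] at hn'; omega
  have hb : Function.Bijective (p.residueFieldMap x).hom := by
    haveI := isAlgClosed_residueField (p x)
    letI := (p.residueFieldMap x).hom.toAlgebra
    haveI : Algebra.IsAlgebraic ((Spec (CommRingCat.of k)).residueField (p x)) (X.residueField x) :=
      trdeg_eq_zero_iff.1 (by simpa using hn)
    exact IsAlgClosed.algebraMap_bijective_of_isIntegral (k := (Spec (CommRingCat.of k)).residueField (p x))
  refine ⟨?_, CycPBLib.residueDegree_eq_one_of_bijective p x hb⟩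
  haveI : JacobsonSpace X := LocallyOfFiniteType.jacobsonSpace p
  rw [isClosed_singleton_iff_locallyOfFiniteType]
  haveI : IsIso (p.residueFieldMap x) := (ConcreteCategory.isIso_iff_bijective _).2 hb
  haveI : LocallyOfFiniteType ((Spec (CommRingCat.of k)).fromSpecResidueField (p x)) := by
    rw [← isClosed_singleton_iff_locallyOfFiniteType]
    exact (PrimeSpectrum.isClosed_singleton_iff_isMaximal (p x)).2 (Ideal.IsMaximal.mk ⟨(p x).isPrime.ne_top, fun J hJ => by
      rcases Ideal.eq_bot_or_top J with h | h
      · exact absurd hJ (h ▸ not_lt_bot)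
      · exact h⟩)
  haveI : LocallyOfFiniteType (X.fromSpecResidueField x ≫ p) := by
    rw [← Scheme.Hom.SpecMap_residueFieldMap_fromSpecResidueField]
    infer_instance
  exact locallyOfFiniteType_of_comp (X.fromSpecResidueField x) p

/-- Zero-cycles of degree zero on a connected smooth projective variety are algebraically trivial. -/
theorem isAlgEquivZero_of_deg [IsProper p] [Smooth p] [ConnectedSpace X] (δ : X → ℤ)
    (hδ : Cyc.DeltaCompat p δ (fun _ => 0)) (α : AlgebraicCycle X ℤ)
    (hα : α ∈ Cyc.Zk X δ 0) (hdeg : ChowOps.deg p δ α = 0) : AlgEqCyc.IsAlgEquivZero p α := by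
  classical
  haveI : CompactSpace X := QuasiCompact.compactSpace_of_compactSpace p
  haveI := SquareLib.geometricallyIntegral_of_connected p
  haveI : IsIntegral X := GeometricallyIntegral.isIntegral_of_subsingleton p
  have hfin : (Function.support ⇑α).Finite := by
    simpa using (Function.locallyFinsupp.locallyFiniteSupport α).finite_inter_support_of_isCompact isCompact_univ
  have hsupp : ∀ x, α x ≠ 0 → δ x = 0 := fun x hx => by
    by_contra h
    exact hx (hα x h)
  have hsum : ∑ x ∈ hfin.toFinset, α x = 0 := by
    rw [← hdeg]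
    show _ = ∑ᶠ x ∈ (p.base : X → Spec (CommRingCat.of k)) ⁻¹' {closedPoint k}, α x * (AlgebraicCycle.mapCoeff p δ (fun _ => (0 : ℤ)) x : ℤ)
    have e : ((p.base : X → Spec (CommRingCat.of k)) ⁻¹' {closedPoint k}) = Set.univ :=
      Set.eq_univ_of_forall fun x => Subsingleton.elim (α := PrimeSpectrum k) (p x) (closedPoint k)
    rw [e, finsum_mem_univ, finsum_eq_sum_of_support_subset _ (s := hfin.toFinset) (fun x hx => by
      rw [Set.Finite.coe_toFinset]
      exact left_ne_zero_of_mul hx)]
    refine Finset.sum_congr rfl fun x hx => ?_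
    have h0 := hsupp x (hfin.mem_toFinset.1 hx)
    rw [AlgebraicCycle.mapCoeff, if_pos h0, (closed_of_delta_zero p hδ h0).2]
    simp
  rcases hfin.toFinset.eq_empty_or_nonempty with he | ⟨x₀, hx₀⟩
  · rw [show α = 0 from DFunLike.ext _ _ fun x => by
      by_contra h
      exact (Finset.notMem_empty x) (he ▸ hfin.mem_toFinset.2 h)]
    exact zero_mem _
  have hα' : α = ∑ x ∈ hfin.toFinset, α x • (Function.locallyFinsuppWithin.single x (1 : ℤ) -
      Function.locallyFinsuppWithin.single x₀ (1 : ℤ) : AlgebraicCycle X ℤ) := by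
    simp only [smul_sub, Finset.sum_sub_distrib, ← Finset.sum_smul, hsum, zero_smul, sub_zero]
    refine DFunLike.ext _ _ fun y => ?_
    rw [Function.locallyFinsuppWithin.coe_sum, Finset.sum_apply]
    rw [Finset.sum_eq_single y]
    · simp [Function.locallyFinsuppWithin.single_apply]
    · intro x _ hxy
      simp [Function.locallyFinsuppWithin.single_apply, Ne.symm hxy]
    · intro hy
      simp only [Set.Finite.mem_toFinset, Function.mem_support, not_not] at hy
      simp [hy]
  obtain ⟨N, hN⟩ := LichtLib.exists_dim p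
  show α ∈ AlgEqCyc.algTriv p
  rw [hα']
  refine sum_mem fun x hx => zsmul_mem ?_ _
  refine ptRel_irreducible p N Set.univ (irreducibleSpace_def X |>.1 inferInstance) isClosed_univ ?_ x trivial x₀ trivial
    (closed_of_delta_zero p hδ (hsupp x (hfin.mem_toFinset.1 hx))).1
    (closed_of_delta_zero p hδ (hsupp x₀ (hfin.mem_toFinset.1 hx₀))).1
  rw [(Homeomorph.Set.univ X).isHomeomorph.topologicalKrullDim_eq, hN]

omit [IsAlgClosed k] in
theorem isProper_of_projective {C : Scheme.{u}} {q : C ⟶ Spec (CommRingCat.of k)}
    (hp : Neron.IsProjectiveOver k (Over.mk q)) : IsProper q := by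
  obtain ⟨n, j, hj, hjh⟩ := hp
  haveI := hj
  haveI : IsProper (CohB1.ProjSpaceOver.toBase n (Spec (CommRingCat.of k))) := ChowLib.isProper_toBase n _
  change j ≫ _ = q at hjh
  rw [← hjh]
  infer_instance

end AlgEqPointLib
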